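import Cfsg.Agent.H412.FC.Lang
import Cfsg.Agent.H200.FC.Bridge
import Cfsg.Agent.H277.FC.SN
set_option linter.all false

/-!
# S5764 [B-SN]: semilinear similitudes and `RB b` (helper412)
-/

set_option autoImplicit false

namespace Cfsg.Agent.H412.FC

open Subgroup Cfsg Cfsg.Agent.H198.FC
open Cfsg.Agent.H200.FC (Ph Ph_apply Ph_apply' eq_Ph Ph_mem Ph_hm Ph_ker hm_mem lin_mem ofU toU ofU_apply ofU_coe
  toU_ofU toU_coe Ph_lin up mem_up up_le up_solv)

universe u v

section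

variable {K : Type u} [Field K] {V : Type v} [AddCommGroup V] [Module K V]

theorem tau_swap (b : Cl K V) {x y : K} (h : b.τ x = y) : b.τ y = x := by rw [← h, b.invol]

/-- a hyperbolic-type pair: `B v u = 1` -/
theorem exists_one_form [Nontrivial V] (b : Cl K V) : ∃ v u, b.B v u = 1 := by
  obtain ⟨v, hv⟩ := exists_ne (0 : V)
  have h : ∃ w, b.B v w ≠ 0 := by
    by_contra hcon
    push Not at hcon
    exact hv (b.nondeg v hcon)
  obtain ⟨w, hw⟩ := h
  exact ⟨(b.B v w)⁻¹ • v, w, by rw [b.smul_left, inv_mul_cancel₀ hw]⟩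

theorem B_zero_left (b : Cl K V) (w : V) : b.B 0 w = 0 := by
  have h := b.smul_left 0 0 w
  rwa [zero_smul, zero_mul] at h

theorem B_zero_right (b : Cl K V) (w : V) : b.B w 0 = 0 := by
  have h := b.smul_right 0 w 0
  rwa [zero_smul, map_zero, zero_mul] at h

theorem nondeg_right (b : Cl K V) {w : V} (h : ∀ v, b.B v w = 0) : w = 0 := by
  refine b.nondeg w fun v => ?_
  rcases b.typ with ⟨-, h1⟩ | ⟨-, h1⟩
  · rw [h1 v w, h v, map_zero]
  · have h2 := h1 (v + w)
    rw [b.add_left, b.add_right, b.add_right, h1, h1, zero_add, add_zero, h v, zero_add] at h2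
    exact h2

/-- the operator `v ↦ B(v,u) z` -/
def rkB (b : Cl K V) (u z : V) : R K V where
  toFun v := b.B v u • z
  map_add' v w := by rw [b.add_left, add_smul]
  map_smul' a v := by rw [b.smul_left, mul_smul, RingHom.id_apply]

theorem rkB_apply (b : Cl K V) (u z v : V) : rkB b u z v = b.B v u • z := rfl

/-- its adjoint `w ↦ τ(B(z,w)) u` -/
def rkB' (b : Cl K V) (u z : V) : R K V where
  toFun w := b.τ (b.B z w) • u
  map_add' v w := by rw [b.add_right, map_add, add_smul]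
  map_smul' a w := by rw [b.smul_right, map_mul, b.invol, mul_smul, RingHom.id_apply]

theorem rkB'_apply (b : Cl K V) (u z w : V) : rkB' b u z w = b.τ (b.B z w) • u := rfl

theorem adj_rkB (b : Cl K V) (u z : V) : b.Adj (rkB b u z) (rkB' b u z) := by
  intro v w
  rw [rkB_apply, rkB'_apply, b.smul_left, b.smul_right, b.invol, mul_comm]

/-- **[B-SN]** a semilinear bijection inducing an element of `RB b` is a similitude -/
theorem isSim_of_adj [Nontrivial V] (b : Cl K V) {f : Equiv.Perm (R K V)}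
    (hf : ∀ X Y, b.Adj X Y ↔ b.Adj (f X) (f Y)) {g : Equiv.Perm V} {σ : K ≃+* K}
    (hadd : ∀ v w, g (v + w) = g v + g w) (hsmul : ∀ (a : K) (v : V), g (a • v) = σ a • g v)
    (hind : ∀ (X : R K V) (v : V), f X (g v) = g (X v)) : ∃ μ, IsSim b g σ μ := by
  obtain ⟨v₀, u₀, h0⟩ := exists_one_form b
  have key : ∀ u z v w, σ (b.B v u) * b.B (g z) (g w) = b.τ (σ (b.τ (b.B z w))) * b.B (g v) (g u) := by
    intro u z v w
    have h1 := (hf _ _).1 (adj_rkB b u z) (g v) (g w)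
    rw [hind, hind, rkB_apply, rkB'_apply, hsmul, hsmul, b.smul_left, b.smul_right] at h1
    exact h1
  have h2 : ∀ z w, b.B (g z) (g w) = b.τ (σ (b.τ (b.B z w))) * b.B (g v₀) (g u₀) := by
    intro z w
    have := key u₀ z v₀ w
    rwa [h0, map_one, one_mul] at this
  have hμ : b.B (g v₀) (g u₀) ≠ 0 := by
    intro h
    have h3 : ∀ z w, b.B z w = 0 := by
      intro z w
      have := h2 (g.symm z) (g.symm w)
      rwa [h, mul_zero, g.apply_symm_apply, g.apply_symm_apply] at this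
    have := h3 v₀ u₀
    rw [h0] at this
    exact one_ne_zero this
  have hσ : ∀ a, b.τ (σ (b.τ a)) = σ a := by
    intro a
    have h4 := h2 (a • v₀) u₀
    rw [b.smul_left, h0, mul_one, hsmul, b.smul_left] at h4
    exact (mul_right_cancel₀ hμ h4).symm
  refine ⟨b.B (g v₀) (g u₀), hμ, hadd, hsmul, fun v w => ?_⟩
  rw [h2, hσ, mul_comm]

theorem stmtBSN : StmtBSN.{u, v} := by
  intro K _ V _ _ _ b hn f hf
  have : Nontrivial V := Module.finrank_pos_iff.1 (by omega : 0 < Module.finrank K V)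
  obtain ⟨g, ⟨hadd, σ, hsmul⟩, hind⟩ := H277.FC.stmtSN K V hn f hf.1
  obtain ⟨μ, h⟩ := isSim_of_adj b hf.2 hadd hsmul hind
  exact ⟨g, σ, μ, h.ne, h.add, h.smul, h.form, hind⟩

/-- the adjoint condition for a similitude -/
theorem adj_Ph {b : Cl K V} {g : Equiv.Perm V} {σ : K ≃+* K} {μ : K} (h : IsSim b g σ μ) (hg : g ∈ Semi K V)
    (X Y : R K V) : b.Adj X Y ↔ b.Adj (Ph K V ⟨g, hg⟩ X) (Ph K V ⟨g, hg⟩ Y) := by
  constructor
  · intro hXY v w
    have h1 := hXY (g.symm v) (g.symm w)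
    have e1 := h.form (X (g.symm v)) (g.symm w)
    have e2 := h.form (g.symm v) (Y (g.symm w))
    rw [g.apply_symm_apply] at e1 e2
    rw [Ph_apply, Ph_apply]
    change b.B (g (X (g.symm v))) w = b.B v (g (Y (g.symm w)))
    rw [e1, e2, h1]
  · intro hXY v w
    have h1 := hXY (g v) (g w)
    rw [Ph_apply' ⟨g, hg⟩, Ph_apply' ⟨g, hg⟩] at h1
    have h2 : μ * σ (b.B (X v) w) = μ * σ (b.B v (Y w)) := by
      rw [← h.form, ← h.form]
      exact h1
    exact σ.injective (mul_left_cancel₀ h.ne h2)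

theorem semi_of_isSim {b : Cl K V} {g : Equiv.Perm V} {σ : K ≃+* K} {μ : K} (h : IsSim b g σ μ) : g ∈ Semi K V :=
  ⟨h.add, σ, h.smul⟩

theorem Sim_le_Semi (b : Cl K V) : Sim b ≤ Semi K V := by
  rintro g ⟨σ, μ, h⟩
  exact semi_of_isSim h

theorem Ph_mem_RB {b : Cl K V} {g : Equiv.Perm V} {σ : K ≃+* K} {μ : K} (h : IsSim b g σ μ) (hg : g ∈ Semi K V) :
    Ph K V ⟨g, hg⟩ ∈ RB b := ⟨Ph_mem _, adj_Ph h hg⟩

theorem up_le_Sim [Nontrivial V] {b : Cl K V} {S : Subgroup (Equiv.Perm (R K V))} (hS : S ≤ RB b) : up S ≤ Sim b := by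
  intro g hg
  obtain ⟨hadd, σ, hsmul⟩ := up_le S hg
  have h1 := (mem_up (up_le S hg)).1 hg
  obtain ⟨μ, h⟩ := isSim_of_adj b (hS h1).2 hadd hsmul (Ph_apply' ⟨g, up_le S hg⟩)
  exact ⟨σ, μ, h⟩

theorem hm_mem_up (S : Subgroup (Equiv.Perm (R K V))) (a : Kˣ) : hm K V a ∈ up S := by
  rw [mem_up (hm_mem a), Ph_hm]
  exact one_mem _

/-- a subspace stable under `S` is stable under the semilinear group -/
theorem up_stable [Nontrivial V] {S : Subgroup (Equiv.Perm (R K V))} {W : Submodule K V} (hW : ∀ f ∈ S, Stb f W)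
    {g : Equiv.Perm V} (hg : g ∈ up S) {w : V} (hw : w ∈ W) : g w ∈ W := by
  have hg' := up_le S hg
  rw [mem_up hg'] at hg
  obtain ⟨v, hv⟩ := exists_ne (0 : V)
  obtain ⟨φ, hφ⟩ := H200.FC.exists_one (K := K) v hv
  have h1 := hW _ hg (φ.smulRight w) (fun v => by
    rw [LinearMap.smulRight_apply]
    exact W.smul_mem _ hw) (g v)
  rw [Ph_apply' ⟨g, hg'⟩] at h1
  change g (φ.smulRight w v) ∈ W at h1
  rwa [LinearMap.smulRight_apply, hφ, one_smul] at h1

theorem up_le_StabS [Nontrivial V] [Finite V] {S : Subgroup (Equiv.Perm (R K V))} {W : Submodule K V}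
    (hW : ∀ f ∈ S, Stb f W) : up S ≤ StabS W := fun _ hg => mem_StabS_of_le fun _ hw => up_stable hW hg hw

/-- conversely -/
theorem stb_of_up {b : Cl K V} [Module.Finite K V] [Nontrivial V] {S : Subgroup (Equiv.Perm (R K V))}
    (hS : S ≤ RB b) {W : Submodule K V} (hW : up S ≤ StabS W) : ∀ f ∈ S, Stb f W := by
  intro f hf X hX v
  obtain ⟨g, hg, hgf⟩ := H277.FC.stmtSN K V (Module.finrank_pos) f (hS hf).1
  have h1 : f = Ph K V ⟨g, hg⟩ := eq_Ph ⟨g, hg⟩ f hgf
  have h2 : g ∈ up S := by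
    rw [mem_up hg, ← h1]
    exact hf
  rw [h1, Ph_apply]
  exact (hW h2 _).2 (hX _)

/-- **from the semilinear language to `FiveB`** -/
theorem fiveB_of_up [Module.Finite K V] [Nontrivial V] {b : Cl K V} {S : Subgroup (Equiv.Perm (R K V))}
    (hS : S ≤ RB b) (h : FiveBV b (up S)) : FiveB b S := by
  obtain ⟨x, hx, hx', hS'⟩ := h
  refine ⟨fun i => toU (x i), fun i => ?_, fun i => ?_, fun f hf hi => ?_⟩
  · rw [toU_coe]
    exact hx i
  · intro v w
    rw [toU_coe]
    exact hx' i v w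
  obtain ⟨g, hg, hgf⟩ := H277.FC.stmtSN K V (Module.finrank_pos) f (hS hf).1
  have h1 : f = Ph K V ⟨g, hg⟩ := eq_Ph ⟨g, hg⟩ f hgf
  have h2 : g ∈ up S := by
    rw [mem_up hg, ← h1]
    exact hf
  obtain ⟨a, ha⟩ := hS' g h2 (fun i => by
    have h3 := hi i
    rw [h1, ← Ph_lin, ← map_inv, ← map_mul, ← map_mul] at h3
    have h4 : ((ofU (toU (x i))).toEquiv : Equiv.Perm V) * g * ((ofU (toU (x i))).toEquiv : Equiv.Perm V)⁻¹ ∈ up S :=
      (mem_up (S := S) (Subtype.property (⟨(ofU (toU (x i))).toEquiv, lin_mem (ofU (toU (x i)))⟩ * ⟨g, hg⟩ *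
        (⟨(ofU (toU (x i))).toEquiv, lin_mem (ofU (toU (x i)))⟩)⁻¹ : Semi K V))).2 h3
    rwa [toU_ofU] at h4)
  have h5 : (⟨g, hg⟩ : Semi K V) = ⟨hm K V a, hm_mem a⟩ := Subtype.ext ha
  rw [h1, h5, Ph_hm]

/-- **the use of maximal solvable groups**: to prove `FiveB b S` it is enough to treat the groups `G` which are maximal
among the solvable subgroups of `H`, for some `H ≤ Sim b` containing `up S` -/
theorem fiveB_of_solIn [Finite V] [Module.Finite K V] [Nontrivial V] {b : Cl K V}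
    {S : Subgroup (Equiv.Perm (R K V))} (hS : S ≤ RB b) (hsol : Group.IsSolvable S) {H : Subgroup (Equiv.Perm V)}
    (hH : up S ≤ H) (h : ∀ G, SolIn H G → FiveBV b G) : FiveB b S := by
  obtain ⟨G, hle, hG⟩ := exists_solIn hH (up_solv S hsol)
  exact fiveB_of_up hS ((h G hG).mono hle)

end

end Cfsg.Agent.H412.FC
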