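import Cfsg.Agent.H198.FC.DefsB
import Cfsg.Agent.H786.FC.Base
set_option linter.all false

/-!
# S5764: the semilinear language for unitary and symplectic groups (helper412)

`Sim b` semilinear similitudes of `b : Cl K V`; `FiveBV b G`; `SolIn H G` (`G` maximal among the solvable subgroups of
`H`); `bridge` : from `S ≤ RB b` to `S' ≤ Sim b`; `fiveBV_of_fit` : the Fitting criterion.
-/

set_option autoImplicit false

namespace Cfsg.Agent.H412.FC

open Subgroup Cfsg Cfsg.Agent.H198.FC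
open Cfsg.Agent.H786.FC (fit_base)
open scoped Pointwise

universe u v

section sim

variable {K : Type u} [Field K] {V : Type v} [AddCommGroup V] [Module K V]

/-- `g` is a semilinear similitude with companion automorphism `σ` and factor `μ` -/
structure IsSim (b : Cl K V) (g : Equiv.Perm V) (σ : K ≃+* K) (μ : K) : Prop where
  ne : μ ≠ 0
  add : ∀ v w, g (v + w) = g v + g w
  smul : ∀ (a : K) (v : V), g (a • v) = σ a • g v
  form : ∀ v w, b.B (g v) (g w) = μ * σ (b.B v w)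

theorem IsSim.mul {b : Cl K V} {g h : Equiv.Perm V} {σ ρ : K ≃+* K} {μ ν : K} (hg : IsSim b g σ μ)
    (hh : IsSim b h ρ ν) : IsSim b (g * h) (ρ.trans σ) (μ * σ ν) where
  ne := mul_ne_zero hg.ne ((map_ne_zero σ).2 hh.ne)
  add v w := by rw [Equiv.Perm.mul_apply, Equiv.Perm.mul_apply, Equiv.Perm.mul_apply, hh.add, hg.add]
  smul a v := by rw [Equiv.Perm.mul_apply, Equiv.Perm.mul_apply, hh.smul, hg.smul]; rfl
  form v w := by
    rw [Equiv.Perm.mul_apply, Equiv.Perm.mul_apply, hg.form, hh.form, map_mul, mul_assoc]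
    rfl

theorem IsSim.one (b : Cl K V) : IsSim b 1 (RingEquiv.refl K) 1 where
  ne := one_ne_zero
  add _ _ := rfl
  smul _ _ := rfl
  form v w := by rw [one_mul]; rfl

theorem IsSim.inv {b : Cl K V} {g : Equiv.Perm V} {σ : K ≃+* K} {μ : K} (hg : IsSim b g σ μ) :
    IsSim b g⁻¹ σ.symm (σ.symm μ⁻¹) where
  ne := (map_ne_zero σ.symm).2 (inv_ne_zero hg.ne)
  add v w := by
    apply g.injective
    rw [hg.add]
    simp
  smul a v := by
    apply g.injective
    rw [hg.smul]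
    simp
  form v w := by
    apply σ.injective
    have h := hg.form (g⁻¹ v) (g⁻¹ w)
    have e1 : g (g⁻¹ v) = v := by simp
    have e2 : g (g⁻¹ w) = w := by simp
    rw [e1, e2] at h
    rw [map_mul, RingEquiv.apply_symm_apply, RingEquiv.apply_symm_apply, h, inv_mul_cancel_left₀ hg.ne]

theorem IsSim.map_zero {b : Cl K V} {g : Equiv.Perm V} {σ : K ≃+* K} {μ : K} (hg : IsSim b g σ μ) : g 0 = 0 := by
  have h := hg.add 0 0
  rw [add_zero] at h
  exact (left_eq_add.1 h)

theorem IsSim.map_neg {b : Cl K V} {g : Equiv.Perm V} {σ : K ≃+* K} {μ : K} (hg : IsSim b g σ μ) (v : V) :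
    g (-v) = -g v := by
  have h := hg.smul (-1) v
  rwa [neg_one_smul, _root_.map_neg σ, _root_.map_one σ, neg_one_smul] at h

theorem IsSim.map_sub {b : Cl K V} {g : Equiv.Perm V} {σ : K ≃+* K} {μ : K} (hg : IsSim b g σ μ) (v w : V) :
    g (v - w) = g v - g w := by
  rw [sub_eq_add_neg, hg.add, hg.map_neg, sub_eq_add_neg]

theorem IsSim.map_sum {b : Cl K V} {g : Equiv.Perm V} {σ : K ≃+* K} {μ : K} (hg : IsSim b g σ μ) {ι : Type*}
    (s : Finset ι) (f : ι → V) : g (∑ i ∈ s, f i) = ∑ i ∈ s, g (f i) := by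
  classical
  induction s using Finset.induction_on with
  | empty => simpa using hg.map_zero
  | insert a s ha ih => rw [Finset.sum_insert ha, Finset.sum_insert ha, hg.add, ih]

/-- the semilinear similitudes of `b` -/
def Sim (b : Cl K V) : Subgroup (Equiv.Perm V) where
  carrier := {g | ∃ σ μ, IsSim b g σ μ}
  one_mem' := ⟨_, _, IsSim.one b⟩
  mul_mem' := by
    rintro g h ⟨σ, μ, hg⟩ ⟨ρ, ν, hh⟩
    exact ⟨_, _, hg.mul hh⟩
  inv_mem' := by
    rintro g ⟨σ, μ, hg⟩
    exact ⟨_, _, hg.inv⟩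

theorem mem_Sim {b : Cl K V} {g : Equiv.Perm V} : g ∈ Sim b ↔ ∃ σ μ, IsSim b g σ μ := Iff.rfl

theorem isSim_hm (b : Cl K V) (a : Kˣ) : IsSim b (hm K V a) (RingEquiv.refl K) (a * b.τ a) where
  ne := mul_ne_zero a.ne_zero ((map_ne_zero b.τ).2 a.ne_zero)
  add v w := by rw [hm_apply, hm_apply, hm_apply, smul_add]
  smul c v := by rw [hm_apply, hm_apply, smul_comm]; rfl
  form v w := by
    rw [hm_apply, hm_apply, b.smul_left, b.smul_right, mul_assoc]
    rfl

theorem hm_mem_Sim (b : Cl K V) (a : Kˣ) : hm K V a ∈ Sim b := ⟨_, _, isSim_hm b a⟩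

/-- an isometry, as a similitude -/
theorem isSim_of_isom {b : Cl K V} (x : V ≃ₗ[K] V) (hx : ∀ v w, b.B (x v) (x w) = b.B v w) :
    IsSim b x.toEquiv (RingEquiv.refl K) 1 where
  ne := one_ne_zero
  add v w := map_add x v w
  smul a v := map_smul x a v
  form v w := by rw [one_mul]; exact hx v w

/-- five conjugates by isometries of determinant 1 meet in homotheties -/
def FiveBV (b : Cl K V) (G : Subgroup (Equiv.Perm V)) : Prop :=
  ∃ x : Fin 4 → (V ≃ₗ[K] V), (∀ i, LinearMap.det ((x i : V ≃ₗ[K] V) : V →ₗ[K] V) = 1) ∧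
    (∀ i v w, b.B (x i v) (x i w) = b.B v w) ∧
    ∀ g ∈ G, (∀ i, ((x i).toEquiv : Equiv.Perm V) * g * ((x i).toEquiv : Equiv.Perm V)⁻¹ ∈ G) →
      ∃ a : Kˣ, g = hm K V a

theorem FiveBV.mono {b : Cl K V} {G G' : Subgroup (Equiv.Perm V)} (h : G ≤ G') (hF : FiveBV b G') : FiveBV b G := by
  obtain ⟨x, hx, hx', hS⟩ := hF
  exact ⟨x, hx, hx', fun f hf hi => hS f (h hf) fun i => h (hi i)⟩

/-- the stabilizer of a subspace -/
def StabS (W : Submodule K V) : Subgroup (Equiv.Perm V) where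
  carrier := {g | ∀ w, g w ∈ W ↔ w ∈ W}
  one_mem' := fun _ => Iff.rfl
  mul_mem' := by
    intro g h hg hh w
    rw [Equiv.Perm.mul_apply, hg, hh]
  inv_mem' := by
    intro g hg w
    rw [← hg]
    simp

theorem mem_StabS {W : Submodule K V} {g : Equiv.Perm V} : g ∈ StabS W ↔ ∀ w, g w ∈ W ↔ w ∈ W := Iff.rfl

theorem mem_StabS_of_le [Finite V] {W : Submodule K V} {g : Equiv.Perm V} (h : ∀ w ∈ W, g w ∈ W) : g ∈ StabS W := by
  rw [mem_StabS]
  intro w
  refine ⟨fun hw => ?_, h w⟩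
  have hf : Function.Surjective (fun w : W => (⟨g w, h w w.2⟩ : W)) :=
    Finite.injective_iff_surjective.1 fun a c hac => Subtype.ext (g.injective (congrArg Subtype.val hac))
  obtain ⟨w', hw'⟩ := hf ⟨g w, hw⟩
  have := g.injective (congrArg Subtype.val hw')
  rw [← this]
  exact w'.2

theorem hm_mem_StabS (W : Submodule K V) (a : Kˣ) : hm K V a ∈ StabS W := by
  intro w
  rw [hm_apply]
  refine ⟨fun h => ?_, fun h => W.smul_mem _ h⟩
  have := W.smul_mem ((a⁻¹ : Kˣ) : K) h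
  rwa [smul_smul, Units.inv_mul, one_smul] at this

/-- `G` is maximal among the solvable subgroups of `H` -/
structure SolIn (H G : Subgroup (Equiv.Perm V)) : Prop where
  le : G ≤ H
  sol : Group.IsSolvable G
  max : ∀ D : Subgroup (Equiv.Perm V), G ≤ D → D ≤ H → Group.IsSolvable D → D = G

omit [AddCommGroup V] in
theorem exists_solIn [Finite V] {H S : Subgroup (Equiv.Perm V)} (hSH : S ≤ H) (hS : Group.IsSolvable S) :
    ∃ G, S ≤ G ∧ SolIn H G := by
  obtain ⟨G, hle, hG⟩ := (Set.toFinite {N : Subgroup (Equiv.Perm V) | N ≤ H ∧ Group.IsSolvable N}).exists_le_maximal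
    (show S ∈ {N : Subgroup (Equiv.Perm V) | N ≤ H ∧ Group.IsSolvable N} from ⟨hSH, hS⟩)
  exact ⟨G, hle, hG.prop.1, hG.prop.2, fun D h1 h2 h3 => le_antisymm (hG.le_of_ge ⟨h2, h3⟩ h1) h1⟩

/-- the product of two solvable groups, one normalizing the other -/
theorem sup_solvable {A : Type*} [Group A] {M U : Subgroup A} (hM : Group.IsSolvable M) (hU : Group.IsSolvable U)
    (hn : ∀ m ∈ M, ∀ u ∈ U, m * u * m⁻¹ ∈ U) : Group.IsSolvable ↥(M ⊔ U) := by
  have hMn : M ≤ normalizer (U : Set A) := by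
    intro m hm
    rw [mem_normalizer_iff]
    intro u
    refine ⟨fun hu => hn m hm u hu, fun hu => ?_⟩
    have := hn m⁻¹ (inv_mem hm) _ hu
    simpa [mul_assoc] using this
  have hle : M ⊔ U ≤ normalizer (U : Set A) := sup_le hMn le_normalizer
  have hN : (U.subgroupOf (M ⊔ U)).Normal := (normal_subgroupOf_iff_le_normalizer le_sup_right).2 hle
  have hq : Group.IsSolvable (↥(M ⊔ U) ⧸ U.subgroupOf (M ⊔ U)) := by
    let f : M →* (↥(M ⊔ U) ⧸ U.subgroupOf (M ⊔ U)) :=
      (QuotientGroup.mk' (U.subgroupOf (M ⊔ U))).comp (inclusion le_sup_left)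
    refine Group.isSolvable_of_surjective (f := f) ?_
    intro y
    obtain ⟨⟨g, hg⟩, rfl⟩ := QuotientGroup.mk_surjective y
    have h2 : ((M : Set A) * (U : Set A)) = ((M ⊔ U : Subgroup A) : Set A) :=
      (coe_mul_of_left_le_normalizer_right M U hMn).symm
    have h3 : g ∈ ((M : Set A) * (U : Set A)) := by rw [h2]; exact hg
    obtain ⟨m, hm, w, hw, rfl⟩ := Set.mem_mul.1 h3
    refine ⟨⟨m, hm⟩, ?_⟩
    refine QuotientGroup.eq.2 ?_
    rw [mem_subgroupOf]
    simpa using hw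
  have hk : Group.IsSolvable ↥(U.subgroupOf (M ⊔ U)) :=
    Group.isSolvable_of_isSolvable_injective (f := (subgroupOfEquivOfLe (le_sup_right : U ≤ M ⊔ U)).toMonoidHom)
      (subgroupOfEquivOfLe le_sup_right).injective
  exact (Group.isSolvable_iff_subgroup_quotient (U.subgroupOf (M ⊔ U))).2 ⟨hk, hq⟩

omit [AddCommGroup V] in
/-- a maximal solvable subgroup of `H` contains the solvable subgroups of `H` which it normalizes -/
theorem SolIn.le_of_normalized {H G U : Subgroup (Equiv.Perm V)} (h : SolIn H G) (hUH : U ≤ H)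
    (hU : Group.IsSolvable U) (hn : ∀ m ∈ G, ∀ u ∈ U, m * u * m⁻¹ ∈ U) : U ≤ G := by
  rw [← h.max (G ⊔ U) le_sup_left (sup_le h.le hUH) (sup_solvable h.sol hU hn)]
  exact le_sup_right

theorem semi_hm {g : Equiv.Perm V} {σ : K ≃+* K} (h : ∀ (a : K) (v : V), g (a • v) = σ a • g v) (a : Kˣ) :
    g * hm K V a * g⁻¹ = hm K V (Units.map (σ : K →* K) a) := by
  rw [mul_inv_eq_iff_eq_mul]
  ext v
  simp only [Equiv.Perm.mul_apply, hm_apply]
  exact h _ _

/-- the homotheties are contained in every maximal solvable subgroup -/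
theorem SolIn.hm_mem {b : Cl K V} {H G : Subgroup (Equiv.Perm V)} (hHb : H ≤ Sim b) (hH : ∀ a, hm K V a ∈ H)
    (h : SolIn H G) (a : Kˣ) : hm K V a ∈ G := by
  have h1 : (hm K V).range ≤ G := by
    refine h.le_of_normalized ?_ ?_ ?_
    · rintro _ ⟨c, rfl⟩
      exact hH c
    · exact Group.isSolvable_of_surjective (f := (hm K V).rangeRestrict) (hm K V).rangeRestrict_surjective
    · rintro m hm' _ ⟨c, rfl⟩
      obtain ⟨σ, μ, hs⟩ := hHb (h.le hm')
      rw [semi_hm hs.smul]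
      exact ⟨_, rfl⟩
  exact h1 ⟨a, rfl⟩

variable (K) in
/-- the homotheties in `G` -/
def ZV (G : Subgroup (Equiv.Perm V)) : Subgroup G := (hm K V).range.subgroupOf G

theorem mem_ZV {G : Subgroup (Equiv.Perm V)} {y : G} : y ∈ ZV K G ↔ ∃ a : Kˣ, (y : Equiv.Perm V) = hm K V a := by
  rw [ZV, mem_subgroupOf, MonoidHom.mem_range]
  exact ⟨fun ⟨a, h⟩ => ⟨a, h.symm⟩, fun ⟨a, h⟩ => ⟨a, h.symm⟩⟩

theorem ZV_normal {b : Cl K V} {G : Subgroup (Equiv.Perm V)} (h : G ≤ Sim b) : (ZV K G).Normal := by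
  constructor
  intro n hn g
  obtain ⟨a, ha⟩ := mem_ZV.1 hn
  obtain ⟨σ, μ, hs⟩ := h g.2
  refine mem_ZV.2 ⟨Units.map (σ : K →* K) a, ?_⟩
  rw [← semi_hm hs.smul, ← ha]
  rfl

/-- the determinant of a semilinear conjugate -/
theorem det_semiconj [Module.Finite K V] {y : Equiv.Perm V} {σ : K ≃+* K} (hadd : ∀ v w, y (v + w) = y v + y w)
    (hsmul : ∀ (a : K) (v : V), y (a • v) = σ a • y v) (x x' : V →ₗ[K] V) (h : ∀ v, x' (y v) = y (x v)) :
    LinearMap.det x' = σ (LinearMap.det x) := by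
  classical
  let e := Module.finBasis K V
  have hy0 : y 0 = 0 := by
    have h := hadd 0 0
    rw [add_zero] at h
    exact (left_eq_add.1 h)
  have hsum : ∀ (f : Fin (Module.finrank K V) → V), y (∑ i, f i) = ∑ i, y (f i) := by
    intro f
    have : ∀ s : Finset (Fin (Module.finrank K V)), y (∑ i ∈ s, f i) = ∑ i ∈ s, y (f i) := by
      intro s
      induction s using Finset.induction_on with
      | empty => simpa using hy0
      | insert a s ha ih => rw [Finset.sum_insert ha, Finset.sum_insert ha, hadd, ih]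
    exact this _
  have hli : LinearIndependent K (fun i => y (e i)) := by
    rw [Fintype.linearIndependent_iff]
    intro c hc i
    have h1 : y (∑ i, σ.symm (c i) • e i) = y 0 := by
      rw [hsum, hy0, ← hc]
      refine Finset.sum_congr rfl fun i _ => ?_
      rw [hsmul, RingEquiv.apply_symm_apply]
    have h2 := Fintype.linearIndependent_iff.1 e.linearIndependent _ (y.injective h1) i
    have := congrArg σ h2
    rwa [RingEquiv.apply_symm_apply, map_zero] at this
  have hsp : ⊤ ≤ Submodule.span K (Set.range fun i => y (e i)) := by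
    intro v _
    have h1 : v = ∑ i, σ (e.repr (y.symm v) i) • y (e i) := by
      conv_lhs => rw [← y.apply_symm_apply v, ← e.sum_repr (y.symm v), hsum]
      refine Finset.sum_congr rfl fun i _ => ?_
      rw [hsmul]
    rw [h1]
    exact Submodule.sum_mem _ fun i _ => Submodule.smul_mem _ _ (Submodule.subset_span ⟨i, rfl⟩)
  let e' : Module.Basis (Fin (Module.finrank K V)) K V := Module.Basis.mk hli hsp
  have he' : ∀ i, e' i = y (e i) := fun i => by rw [Module.Basis.mk_apply]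
  have hM : LinearMap.toMatrix e' e' x' = (LinearMap.toMatrix e e x).map σ := by
    ext i j
    rw [Matrix.map_apply, LinearMap.toMatrix_apply, LinearMap.toMatrix_apply, he', h]
    have h1 : y (x (e j)) = ∑ k, σ (e.repr (x (e j)) k) • e' k := by
      conv_lhs => rw [← e.sum_repr (x (e j)), hsum]
      refine Finset.sum_congr rfl fun k _ => ?_
      rw [hsmul, he']
    rw [h1, map_sum, Finset.sum_apply']
    rw [Finset.sum_eq_single i]
    · rw [map_smul, Module.Basis.repr_self, Finsupp.smul_apply, Finsupp.single_eq_same, smul_eq_mul, mul_one]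
    · intro k _ hk
      rw [map_smul, Module.Basis.repr_self, Finsupp.smul_apply, Finsupp.single_eq_of_ne (Ne.symm hk), smul_zero]
    · intro hi
      exact absurd (Finset.mem_univ _) hi
  rw [← LinearMap.det_toMatrix e', ← LinearMap.det_toMatrix e, hM]
  exact (RingEquiv.map_det σ _).symm

/-- conjugation of a linear isometry of determinant 1 by a similitude -/
theorem exists_conj_isom [Module.Finite K V] {b : Cl K V} {y : Equiv.Perm V} {σ : K ≃+* K} {μ : K}
    (hy : IsSim b y σ μ) (x : V ≃ₗ[K] V) (hd : LinearMap.det (x : V →ₗ[K] V) = 1)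
    (hx : ∀ v w, b.B (x v) (x w) = b.B v w) :
    ∃ z : V ≃ₗ[K] V, LinearMap.det (z : V →ₗ[K] V) = 1 ∧ (∀ v w, b.B (z v) (z w) = b.B v w) ∧
      (z.toEquiv : Equiv.Perm V) = y * x.toEquiv * y⁻¹ := by
  have h1 := (hy.mul (isSim_of_isom x hx)).mul hy.inv
  let z : V ≃ₗ[K] V :=
    { toFun := fun v => y (x (y⁻¹ v))
      map_add' := fun v w => h1.add v w
      map_smul' := fun a v => by
        have := h1.smul a v
        have e : ((σ.symm.trans ((RingEquiv.refl K).trans σ)) a) = a := by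
          simp
        rw [e] at this
        exact this
      invFun := fun v => y (x.symm (y⁻¹ v))
      left_inv := fun v => by simp
      right_inv := fun v => by simp }
  refine ⟨z, ?_, fun v w => ?_, ?_⟩
  · have h2 := det_semiconj hy.add hy.smul (x : V →ₗ[K] V) (z : V →ₗ[K] V) (fun v => by
      show y (x (y⁻¹ (y v))) = y (x v)
      simp)
    rw [h2, hd, map_one]
  · have h3 := h1.form v w
    have e1 : ∀ c : K, (σ.symm.trans ((RingEquiv.refl K).trans σ)) c = c := fun c => by simp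
    rw [e1] at h3
    have e2 : μ * σ (1 : K) * σ.symm.symm.symm.symm (σ.symm μ⁻¹) = 1 := by
      simp [hy.ne]
    have h4 : b.B (z v) (z w) = μ * σ 1 * ((RingEquiv.refl K).trans σ) (σ.symm μ⁻¹) * b.B v w := h3
    rw [h4]
    simp [hy.ne]
  · ext v
    rfl

/-- **The Fitting criterion.** -/
theorem fiveBV_of_fit [Finite V] [Module.Finite K V] {b : Cl K V} {G : Subgroup (Equiv.Perm V)} (hG : G ≤ Sim b)
    (hsol : Group.IsSolvable G) [hn : (ZV K G).Normal] (x : V ≃ₗ[K] V) (hd : LinearMap.det (x : V →ₗ[K] V) = 1)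
    (hx : ∀ v w, b.B (x v) (x w) = b.B v w)
    (h : ∀ y : G, (QuotientGroup.mk y : G ⧸ ZV K G) ∈ fittingSubgroup (G ⧸ ZV K G) →
      (x.toEquiv : Equiv.Perm V) * (y : Equiv.Perm V) * (x.toEquiv : Equiv.Perm V)⁻¹ ∈ G →
      ∃ a : Kˣ, (y : Equiv.Perm V) = hm K V a) : FiveBV b G := by
  have hs : Group.IsSolvable (G ⧸ ZV K G) :=
    Group.isSolvable_of_surjective (QuotientGroup.mk'_surjective (ZV K G))
  obtain ⟨v₁, h1, v₂, h2, v₃, h3, hb⟩ := fit_base (S := G ⧸ ZV K G)
  obtain ⟨y₁, rfl⟩ := QuotientGroup.mk_surjective v₁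
  obtain ⟨y₂, rfl⟩ := QuotientGroup.mk_surjective v₂
  obtain ⟨y₃, rfl⟩ := QuotientGroup.mk_surjective v₃
  have hFn : (fittingSubgroup (G ⧸ ZV K G)).Normal := Lib.Cores.fittingSubgroup_normal
  set g : Equiv.Perm V := (x.toEquiv : Equiv.Perm V) with hgdef
  have key : ∀ v : G, (QuotientGroup.mk v : G ⧸ ZV K G) ∈ fittingSubgroup (G ⧸ ZV K G) →
      ∀ k : G, g * (k : Equiv.Perm V) * g⁻¹ ∈ G →
      ((v : Equiv.Perm V) * g * (v : Equiv.Perm V)⁻¹) * k * (v * g * (v : Equiv.Perm V)⁻¹)⁻¹ ∈ G →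
      (QuotientGroup.mk k : G ⧸ ZV K G) * QuotientGroup.mk v = QuotientGroup.mk v * QuotientGroup.mk k := by
    intro v hv k hk hkv
    have h6 : g * ((v : Equiv.Perm V)⁻¹ * k * v) * g⁻¹ ∈ G := by
      have := mul_mem (mul_mem (inv_mem v.2) hkv) v.2
      have e : (v : Equiv.Perm V)⁻¹ * (((v : Equiv.Perm V) * g * (v : Equiv.Perm V)⁻¹) * k *
          (v * g * (v : Equiv.Perm V)⁻¹)⁻¹) * v = g * ((v : Equiv.Perm V)⁻¹ * k * v) * g⁻¹ := by group
      rwa [e] at this
    have h7 : (QuotientGroup.mk (k⁻¹ * v⁻¹ * k * v) : G ⧸ ZV K G) ∈ fittingSubgroup (G ⧸ ZV K G) := by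
      have h70 := hFn.conj_mem _ (inv_mem hv) (QuotientGroup.mk k)⁻¹
      rw [inv_inv] at h70
      exact mul_mem h70 hv
    have h8 : g * ((k⁻¹ * v⁻¹ * k * v : G) : Equiv.Perm V) * g⁻¹ ∈ G := by
      have := mul_mem (inv_mem hk) h6
      have e : (g * (k : Equiv.Perm V) * g⁻¹)⁻¹ * (g * ((v : Equiv.Perm V)⁻¹ * k * v) * g⁻¹) =
          g * ((k⁻¹ * v⁻¹ * k * v : G) : Equiv.Perm V) * g⁻¹ := by
        simp only [Subgroup.coe_mul, Subgroup.coe_inv]
        group
      rwa [e] at this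
    have h9 : (QuotientGroup.mk (k⁻¹ * v⁻¹ * k * v) : G ⧸ ZV K G) = 1 :=
      (QuotientGroup.eq_one_iff _).2 (mem_ZV.2 (h _ h7 h8))
    have h10 : (QuotientGroup.mk v : G ⧸ ZV K G) * QuotientGroup.mk k *
        QuotientGroup.mk (k⁻¹ * v⁻¹ * k * v) = QuotientGroup.mk k * QuotientGroup.mk v := by
      rw [← QuotientGroup.mk_mul, ← QuotientGroup.mk_mul, ← QuotientGroup.mk_mul]
      congr 1
      group
    rw [h9, mul_one] at h10
    exact h10.symm
  obtain ⟨σ₁, μ₁, s1⟩ := hG y₁.2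
  obtain ⟨σ₂, μ₂, s2⟩ := hG y₂.2
  obtain ⟨σ₃, μ₃, s3⟩ := hG y₃.2
  obtain ⟨z1, d1, i1, e1⟩ := exists_conj_isom s1 x hd hx
  obtain ⟨z2, d2, i2, e2⟩ := exists_conj_isom s2 x hd hx
  obtain ⟨z3, d3, i3, e3⟩ := exists_conj_isom s3 x hd hx
  refine ⟨![x, z1, z2, z3], fun i => ?_, fun i => ?_, fun k hk hki => ?_⟩
  · fin_cases i
    exacts [hd, d1, d2, d3]
  · fin_cases i
    exacts [hx, i1, i2, i3]
  · have a0 : g * k * g⁻¹ ∈ G := hki 0
    have b1 : ((z1.toEquiv : Equiv.Perm V)) * k * (z1.toEquiv : Equiv.Perm V)⁻¹ ∈ G := hki 1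
    have b2 : ((z2.toEquiv : Equiv.Perm V)) * k * (z2.toEquiv : Equiv.Perm V)⁻¹ ∈ G := hki 2
    have b3 : ((z3.toEquiv : Equiv.Perm V)) * k * (z3.toEquiv : Equiv.Perm V)⁻¹ ∈ G := hki 3
    rw [e1] at b1
    rw [e2] at b2
    rw [e3] at b3
    have a1 := key y₁ h1 ⟨k, hk⟩ a0 b1
    have a2 := key y₂ h2 ⟨k, hk⟩ a0 b2
    have a3 := key y₃ h3 ⟨k, hk⟩ a0 b3
    exact h ⟨k, hk⟩ (hb _ a1 a2 a3) a0

end sim

end Cfsg.Agent.H412.FC
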